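import Cfsg.Agent.FGSA.NormOne.Endgame

/-! The contradiction: no `x ≠ 1` has both `x` and `2 - x` of norm one. -/

set_option autoImplicit false
set_option linter.style.haveILetI false
set_option linter.unusedSectionVars false

namespace CfsgLib.NormOne

variable {p q : ℕ} [hp : Fact p.Prime] [hq : Fact q.Prime]
variable {F : Type*} [Field F] [Fintype F] [Algebra (ZMod p) F]
variable {G : Type*} [Group G] [Finite G]
variable {σ : F → G} {ψ : G → F} {U Q : Subgroup G} {y : G}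

namespace Config

variable (h : Config p q σ ψ U Q y)
include h

theorem phi_pow (i : ZMod p) (u : G) (k : ℕ) : phi σ y i (u ^ k) = phi σ y i u ^ k := by
  simp only [phi]; rw [conj_pow]

theorem tc_mul (i j k : ZMod p) (hk : i + j = k) : tc σ y i * tc σ y j = tc σ y k := by
  rw [← h.tc_add, hk]

/-- The identity attached to a pair of elements of sum two. -/
theorem identity {a m n : ZMod p} {u v α : G} (hu : u ∈ U) (hv : v ∈ U) (hα : α ∈ U)
    (huv : ψ u + ψ v = 2)
    (hX : algebraMap (ZMod p) F a + (1 - algebraMap (ZMod p) F a) * ψ (phi σ y ((2 - a) * m) u) =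
      algebraMap (ZMod p) F n * ψ α) :
    tc σ y (-(2 * m)) * sc σ (m * n) * tc σ y m =
      σ ((algebraMap (ZMod p) F (a * m - 2 * m) +
          ψ (phi σ y (-(a * m)) v) * algebraMap (ZMod p) F (m - a * m)) / ψ (phi σ y (-(2 * m)) α)) *
        tc σ y (-m) *
      σ (algebraMap (ZMod p) F (a * m) /
          ψ (phi σ y ((1 - a) * m) (v⁻¹ * u) * phi σ y (-m) (α * (phi σ y ((2 - a) * m) u)⁻¹)) +
        algebraMap (ZMod p) F (2 * m - a * m) /
          ψ (phi σ y (-m) (α * (phi σ y ((2 - a) * m) u)⁻¹))) := by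
  set z := phi σ y ((2 - a) * m) u with hz
  set v2 := phi σ y (-(a * m)) v with hv2
  set α2 := phi σ y (-(2 * m)) α with hα2
  set w := phi σ y ((1 - a) * m) (v⁻¹ * u) with hw
  set α1 := phi σ y (-m) (α * z⁻¹) with hα1
  have hzU : z ∈ U := h.phi_mem _ hu
  have hv2U : v2 ∈ U := h.phi_mem _ hv
  have hα2U : α2 ∈ U := h.phi_mem _ hα
  have hwU : w ∈ U := h.phi_mem _ (mul_mem (inv_mem hv) hu)
  have hα1U : α1 ∈ U := h.phi_mem _ (mul_mem hα (inv_mem hzU))
  -- the first side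
  have hK : tc σ y (-(a * m)) * sc σ (2 * m) * tc σ y (a * m - 2 * m) * z *
      (tc σ y (-(a * m - 2 * m)) * (sc σ m)⁻¹ * tc σ y (a * m - m)) =
      v2 * (tc σ y (-(a * m)) * sc σ m * tc σ y (a * m - m)) * w := by
    have e1 : tc σ y (a * m - 2 * m) * z * tc σ y (-(a * m - 2 * m)) = u := by
      rw [h.tc_neg]
      show phi σ y (a * m - 2 * m) z = u
      rw [hz, h.phi_phi, show a * m - 2 * m + (2 - a) * m = (0 : ZMod p) by ring, h.phi_zero]
    have e2 : sc σ (2 * m) * u * (sc σ m)⁻¹ = v * sc σ m * (v⁻¹ * u) := by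
      rw [show v * sc σ m * (v⁻¹ * u) = (v * sc σ m * v⁻¹) * u by group, mul_assoc _ u]
      simp only [sc]
      rw [← h.sigma_neg, h.swap hu, h.conj v hv, ← mul_assoc, ← h.add]
      congr 2
      simp only [map_mul, map_ofNat]
      linear_combination (-(algebraMap (ZMod p) F m)) * huv
    calc _ = tc σ y (-(a * m)) *
          (sc σ (2 * m) * (tc σ y (a * m - 2 * m) * z * tc σ y (-(a * m - 2 * m))) * (sc σ m)⁻¹) *
            tc σ y (a * m - m) := by group
      _ = tc σ y (-(a * m)) * v * sc σ m * ((v⁻¹ * u) * tc σ y (a * m - m)) := by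
          rw [e1, e2]; group
      _ = _ := by
          rw [h.phi_swap (-(a * m)) v, h.phi_swap' (a * m - m) (v⁻¹ * u),
            show -(a * m - m) = (1 - a) * m by ring]
          simp only [mul_assoc]; rfl
  -- the second side
  have hr1 := h.rel (a * m) (2 * m)
  have hr2 := h.rel (a * m - m) m
  rw [show a * m - m - m = a * m - 2 * m by ring] at hr2
  have hr2' : tc σ y (-(a * m - 2 * m)) * (sc σ m)⁻¹ * tc σ y (a * m - m) =
      sc σ (m - a * m) * tc σ y m * sc σ (a * m - 2 * m) := by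
    have := congrArg (fun g => g⁻¹) hr2
    simp only [mul_inv_rev, ← h.sc_neg, ← h.tc_neg, neg_neg] at this
    rw [← h.sc_neg m, mul_assoc, this, ← mul_assoc]
    congr 3 <;> ring
  have hr3 := h.rel (a * m) m
  rw [hr1, hr2', hr3] at hK
  have hmid : sc σ (a * m) * z * sc σ (m - a * m) = α * sc σ (m * n) * (α⁻¹ * z) := by
    rw [show α * sc σ (m * n) * (α⁻¹ * z) = (α * sc σ (m * n) * α⁻¹) * z by group, mul_assoc _ z]
    simp only [sc]
    rw [h.conj α hα, h.swap hzU, ← mul_assoc, ← h.add]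
    congr 2
    simp only [map_mul, map_sub]
    linear_combination (algebraMap (ZMod p) F m) * hX
  have hmid2 : sc σ (2 * m - a * m) * α2 * (tc σ y (-(2 * m)) * sc σ (m * n) * tc σ y m) *
      α1⁻¹ * sc σ (a * m - 2 * m) =
      v2 * (sc σ (m - a * m) * tc σ y (-m) * sc σ (a * m)) * w := by
    rw [← hK]
    calc _ = sc σ (2 * m - a * m) * (α2 * tc σ y (-(2 * m))) * sc σ (m * n) *
          (tc σ y m * α1⁻¹) * sc σ (a * m - 2 * m) := by group
      _ = sc σ (2 * m - a * m) * (tc σ y (-(2 * m)) * α) * sc σ (m * n) *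
          ((α⁻¹ * z) * tc σ y m) * sc σ (a * m - 2 * m) := by
          rw [show α2 * tc σ y (-(2 * m)) = tc σ y (-(2 * m)) * α by rw [h.phi_swap],
            show tc σ y m * α1⁻¹ = α⁻¹ * z * tc σ y m by
              rw [h.phi_swap, ← h.phi_inv, h.phi_phi, add_neg_cancel, h.phi_zero, mul_inv_rev,
                inv_inv, h.ucomm hzU (inv_mem hα)]]
      _ = sc σ (2 * m - a * m) * tc σ y (-(2 * m)) *
          (α * sc σ (m * n) * (α⁻¹ * z)) * tc σ y m * sc σ (a * m - 2 * m) := by group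
      _ = _ := by rw [← hmid]; group
  have hW : phi σ y m (α2⁻¹ * v2) * (w * α1) = 1 := by
    rw [hα2, hv2, ← h.phi_inv, h.phi_mul, h.phi_phi, h.phi_phi, hw, hα1, h.phi_mul, h.phi_mul,
      h.phi_inv _ z, hz, h.phi_phi, show m + -(2 * m) = -m by ring,
      show m + -(a * m) = (1 - a) * m by ring, show -m + (2 - a) * m = (1 - a) * m by ring,
      h.phi_inv, h.phi_inv]
    set A := phi σ y (-m) α
    set B := phi σ y ((1 - a) * m) v
    set C := phi σ y ((1 - a) * m) u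
    have hA : A ∈ U := h.phi_mem _ hα
    have hC : C ∈ U := h.phi_mem _ hu
    rw [show A⁻¹ * B * (B⁻¹ * C * (A * C⁻¹)) = A⁻¹ * (C * A) * C⁻¹ by group, h.ucomm hC hA]
    group
  have hleft : α2⁻¹ * (sc σ (a * m - 2 * m) * v2 * sc σ (m - a * m)) =
      σ ((algebraMap (ZMod p) F (a * m - 2 * m) + ψ v2 * algebraMap (ZMod p) F (m - a * m)) / ψ α2) *
        (α2⁻¹ * v2) := by
    simp only [sc]
    rw [mul_assoc (σ _) v2, h.swap hv2U, ← mul_assoc (σ _), ← h.add, ← mul_assoc,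
      h.swap (inv_mem hα2U), h.psi_inv hα2U, inv_mul_eq_div, mul_assoc]
  have hright : sc σ (a * m) * w * sc σ (2 * m - a * m) * α1 = (w * α1) *
      σ (algebraMap (ZMod p) F (a * m) / ψ (w * α1) + algebraMap (ZMod p) F (2 * m - a * m) / ψ α1) := by
    simp only [sc]
    rw [mul_assoc _ (σ _) α1, h.swap' hα1U, h.add, mul_assoc (σ _) w, ← mul_assoc w α1,
      ← mul_assoc (σ _) (w * α1), h.swap' (mul_mem hwU hα1U)]
    group
  have e3 : sc σ (2 * m - a * m) = (sc σ (a * m - 2 * m))⁻¹ := by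
    rw [← h.sc_neg]; congr 1; ring
  calc tc σ y (-(2 * m)) * sc σ (m * n) * tc σ y m
      = α2⁻¹ * sc σ (a * m - 2 * m) * (sc σ (2 * m - a * m) * α2 *
          (tc σ y (-(2 * m)) * sc σ (m * n) * tc σ y m) * α1⁻¹ * sc σ (a * m - 2 * m)) *
          sc σ (2 * m - a * m) * α1 := by rw [e3]; group
    _ = α2⁻¹ * sc σ (a * m - 2 * m) * (v2 * (sc σ (m - a * m) * tc σ y (-m) * sc σ (a * m)) * w) *
          sc σ (2 * m - a * m) * α1 := by rw [hmid2]
    _ = α2⁻¹ * (sc σ (a * m - 2 * m) * v2 * sc σ (m - a * m)) * tc σ y (-m) *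
          (sc σ (a * m) * w * sc σ (2 * m - a * m) * α1) := by group
    _ = _ := by
        rw [hleft, hright, mul_assoc (σ _) _ (tc σ y (-m)), h.phi_swap' (-m), neg_neg]
        rw [← mul_assoc (σ _) (tc σ y (-m)), mul_assoc (_ * _) (phi σ y m (α2⁻¹ * v2)),
          ← mul_assoc (phi σ y m (α2⁻¹ * v2)), hW, one_mul]

theorem norm_one_of_pair {a m : ZMod p} (hm : m ≠ 0) {u v : G} (hu : u ∈ U) (hv : v ∈ U)
    (huv : ψ u + ψ v = 2) :
    (algebraMap (ZMod p) F a + (1 - algebraMap (ZMod p) F a) * ψ (phi σ y ((2 - a) * m) u)) ^ M p q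
      = 1 := by
  haveI : CharP F p := (Algebra.charP_iff (ZMod p) F p).mp inferInstance
  set z := phi σ y ((2 - a) * m) u with hz
  have hzU : z ∈ U := h.phi_mem _ hu
  set X := algebraMap (ZMod p) F a + (1 - algebraMap (ZMod p) F a) * ψ z with hXdef
  have hX0 : X ≠ 0 := by
    intro h0
    rcases eq_or_ne a 1 with rfl | ha
    · simp [hXdef] at h0
    · have h1 : (1 : ZMod p) - a ≠ 0 := sub_ne_zero.mpr (Ne.symm ha)
      have h2 : ψ z = algebraMap (ZMod p) F (-a / (1 - a)) := by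
        rw [map_div₀, map_neg, map_sub, map_one, eq_div_iff (by
          rw [← map_one (algebraMap (ZMod p) F), ← map_sub]
          exact (map_ne_zero _).mpr h1)]
        linear_combination h0
      have h3 := algebraMap_eq_one h.cop (F := F) (h2 ▸ h.psi_norm z hzU)
      rw [h3, map_one] at h2
      rw [hXdef, h2, mul_one, add_sub_cancel] at h0
      exact one_ne_zero h0
  obtain ⟨n, hn0, x, hx, hXeq⟩ := exists_split h.card h.cop hX0
  obtain ⟨α, hα, rfl⟩ := h.psi_surj x hx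
  have hi := h.identity hu hv hα huv hXeq
  -- the Galois images
  have hpow : ∀ {w : G}, w ∈ U → ψ (w ^ p) = ψ w ^ p := fun hw => h.psi_pow hw p
  have hfix : ∀ c : ZMod p, (algebraMap (ZMod p) F c) ^ p = algebraMap (ZMod p) F c := fun c => by
    rw [← map_pow, ZMod.pow_card]
  have htwo : (2 : F) ^ p = 2 := by
    have := hfix 2
    rwa [map_ofNat] at this
  have huv' : ψ (u ^ p) + ψ (v ^ p) = 2 := by
    rw [hpow hu, hpow hv, ← add_pow_char, huv, htwo]
  have hX' : algebraMap (ZMod p) F a +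
      (1 - algebraMap (ZMod p) F a) * ψ (phi σ y ((2 - a) * m) (u ^ p)) =
      algebraMap (ZMod p) F n * ψ (α ^ p) := by
    rw [h.phi_pow, ← hz, hpow hzU, hpow hα, ← hfix n, ← mul_pow, ← hXeq, hXdef, add_pow_char,
      mul_pow, sub_pow_char, one_pow, hfix]
  have hi' := h.identity (pow_mem hu p) (pow_mem hv p) (pow_mem hα p) huv' hX'
  set Vl := (algebraMap (ZMod p) F (a * m - 2 * m) +
      ψ (phi σ y (-(a * m)) v) * algebraMap (ZMod p) F (m - a * m)) / ψ (phi σ y (-(2 * m)) α) with hVl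
  set Vr := algebraMap (ZMod p) F (a * m) /
      ψ (phi σ y ((1 - a) * m) (v⁻¹ * u) * phi σ y (-m) (α * z⁻¹)) +
    algebraMap (ZMod p) F (2 * m - a * m) / ψ (phi σ y (-m) (α * z⁻¹)) with hVr
  have hcm : Commute α z⁻¹ := h.ucomm hα (inv_mem hzU)
  have hcv : Commute v⁻¹ u := h.ucomm (inv_mem hv) hu
  have hl : (algebraMap (ZMod p) F (a * m - 2 * m) +
      ψ (phi σ y (-(a * m)) (v ^ p)) * algebraMap (ZMod p) F (m - a * m)) /
        ψ (phi σ y (-(2 * m)) (α ^ p)) = Vl ^ p := by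
    rw [hVl, div_pow, add_pow_char, mul_pow, h.phi_pow, h.phi_pow, hpow (h.phi_mem _ hv),
      hpow (h.phi_mem _ hα), hfix, hfix]
  have hr : algebraMap (ZMod p) F (a * m) /
      ψ (phi σ y ((1 - a) * m) ((v ^ p)⁻¹ * u ^ p) *
        phi σ y (-m) (α ^ p * (phi σ y ((2 - a) * m) (u ^ p))⁻¹)) +
    algebraMap (ZMod p) F (2 * m - a * m) /
      ψ (phi σ y (-m) (α ^ p * (phi σ y ((2 - a) * m) (u ^ p))⁻¹)) = Vr ^ p := by
    have hw := h.phi_mem ((1 - a) * m) (mul_mem (inv_mem hv) hu)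
    have hα1 := h.phi_mem (-m) (mul_mem hα (inv_mem hzU))
    have hc2 : Commute (phi σ y ((1 - a) * m) (v⁻¹ * u)) (phi σ y (-m) (α * z⁻¹)) :=
      h.ucomm hw hα1
    rw [hVr, h.phi_pow ((2 - a) * m), ← hz, ← inv_pow, ← inv_pow, ← hcm.mul_pow, ← hcv.mul_pow,
      h.phi_pow, h.phi_pow, ← hc2.mul_pow, hpow hα1, hpow (mul_mem hw hα1), add_pow_char, div_pow,
      div_pow, hfix, hfix]
  rw [hl, hr, hi] at hi'
  have hm' : (-m : ZMod p) ≠ 0 := neg_ne_zero.mpr hm
  have hVl0 : Vl - Vl ^ p = 0 := by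
    refine h.rigid hm (c := Vl - Vl ^ p) ?_
    have : tc σ y m * σ (Vl - Vl ^ p) * (tc σ y m)⁻¹ = σ (Vr ^ p - Vr) := by
      rw [sub_eq_neg_add, h.add, h.sigma_neg, h.sigma_sub]
      calc tc σ y m * ((σ (Vl ^ p))⁻¹ * σ Vl) * (tc σ y m)⁻¹
          = tc σ y m * (σ (Vl ^ p))⁻¹ * (σ Vl * tc σ y (-m) * σ Vr) * (σ Vr)⁻¹ := by
            rw [h.tc_neg]; group
        _ = _ := by rw [hi', h.tc_neg]; group
    rw [this]
    exact h.inA_sigma _
  have hVl' : Vl ^ p = Vl := (sub_eq_zero.mp hVl0).symm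
  rw [hVl'] at hi'
  have hVr' : Vr ^ p = Vr := (h.inj (mul_left_cancel hi')).symm
  obtain ⟨l, hl'⟩ := mem_prime_of_pow (p := p) hVl'
  obtain ⟨j, hj'⟩ := mem_prime_of_pow (p := p) hVr'
  rw [← hl', ← hj'] at hi
  have hmn := h.endgame hm (mul_ne_zero hm hn0) hi
  have hn : n = 1 := mul_left_cancel₀ hm (by rw [hmn, mul_one])
  rw [hXeq, hn, map_one, one_mul]
  exact hx

theorem false_of_config : False := by
  haveI : CharP F p := (Algebra.charP_iff (ZMod p) F p).mp inferInstance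
  obtain ⟨x, hx, hxM, hx2⟩ := exists_two_sub h.card h.cop h.lt
  obtain ⟨u, hu, rfl⟩ := h.psi_surj x hxM
  obtain ⟨v, hv, hv'⟩ := h.psi_surj _ hx2
  have huv : ψ u + ψ v = 2 := by rw [hv']; ring
  have hq2 := q_ne_two h.cop h.lt
  have hpq : q + 1 < p := by
    have h1 := h.lt
    obtain ⟨k, hk⟩ := hq.out.odd_of_ne_two hq2
    obtain ⟨j, hj⟩ := hp.out.odd_of_ne_two (by have := hq.out.two_le; omega)
    omega
  set z := phi σ y (1 : ZMod p) u with hz
  have hz1 : ψ z = 1 := by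
    refine eq_one_of_norms (q := q) h.card hpq fun a ha => ?_
    have h2 : (2 : ZMod p) - a ≠ 0 := sub_ne_zero.mpr (Ne.symm ha)
    have := h.norm_one_of_pair (a := a) (inv_ne_zero h2) hu hv huv
    rw [mul_inv_cancel₀ h2, ← hz] at this
    refine Eq.trans ?_ this; congr 1; ring
  have hz2 : z = 1 := h.psi_inj (h.phi_mem _ hu) (one_mem U) (by rw [hz1, h.psi_one])
  exact hx (by rw [show u = 1 from conj_eq_one_iff.mp hz2, h.psi_one])

end Config

end CfsgLib.NormOne
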