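import Cfsg.Agent.FGSA.NormOne.Count
import Mathlib

/-! The group configuration of the last step of the odd order theorem. -/

set_option autoImplicit false
set_option linter.style.haveILetI false
set_option linter.unusedSectionVars false

namespace CfsgLib.NormOne

variable {p q : ℕ} [hp : Fact p.Prime] [hq : Fact q.Prime]
variable {F : Type*} [Field F] [Fintype F] [Algebra (ZMod p) F]
variable {G : Type*} [Group G] [Finite G]

/-- `σ : F → G` is the field inside the group, `U` acts by norm-one multiplications, and `y`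
moves the prime field into the normalizer of `U`. -/
structure Config (p q : ℕ) {F : Type*} [Field F] [Fintype F] [Algebra (ZMod p) F] {G : Type*}
    [Group G] (σ : F → G) (ψ : G → F) (U Q : Subgroup G) (y : G) : Prop where
  card : Fintype.card F = p ^ q
  cop : (M p q).Coprime (p - 1)
  lt : q < p
  add : ∀ a b : F, σ (a + b) = σ a * σ b
  inj : Function.Injective σ
  conj : ∀ u ∈ U, ∀ c : F, u * σ c * u⁻¹ = σ (ψ u * c)
  psi_mul : ∀ u ∈ U, ∀ v ∈ U, ψ (u * v) = ψ u * ψ v
  psi_inj : Set.InjOn ψ (U : Set G)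
  psi_norm : ∀ u ∈ U, ψ u ^ M p q = 1
  psi_surj : ∀ x : F, x ^ M p q = 1 → ∃ u ∈ U, ψ u = x
  ucop : (Nat.card U).Coprime p
  qcomm : ∀ z ∈ Q, ∀ w ∈ Q, z * w = w * z
  qp : ∀ z ∈ Q, z ^ p = 1 → z = 1
  ymem : y ∈ Q
  sq : ∀ i : ZMod p, σ (algebraMap (ZMod p) F i) ∈ Subgroup.normalizer (Q : Set G)
  tu : ∀ i : ZMod p, y * σ (algebraMap (ZMod p) F i) * y⁻¹ ∈ Subgroup.normalizer (U : Set G)

variable {σ : F → G} {ψ : G → F} {U Q : Subgroup G} {y : G}

/-- An element of the prime field in the group. -/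
def sc (σ : F → G) (i : ZMod p) : G := σ (algebraMap (ZMod p) F i)

/-- Its conjugate under `y`. -/
def tc (σ : F → G) (y : G) (i : ZMod p) : G := y * sc σ i * y⁻¹

/-- The action of the conjugate on `U`. -/
def phi (σ : F → G) (y : G) (i : ZMod p) (u : G) : G := tc σ y i * u * (tc σ y i)⁻¹

/-- The elements of the product of the field and `U`. -/
def InA (σ : F → G) (U : Subgroup G) (g : G) : Prop := ∃ c : F, ∃ u ∈ U, g = σ c * u

namespace Config

variable (h : Config p q σ ψ U Q y)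
include h

theorem sigma_zero : σ 0 = 1 := by
  have := h.add 0 0
  rw [add_zero] at this
  exact left_eq_mul.mp this

theorem sigma_neg (a : F) : σ (-a) = (σ a)⁻¹ :=
  eq_inv_of_mul_eq_one_left (by rw [← h.add, neg_add_cancel, h.sigma_zero])

theorem sigma_sub (a b : F) : σ (a - b) = σ a * (σ b)⁻¹ := by
  rw [sub_eq_add_neg, h.add, h.sigma_neg]

theorem sigma_comm (a b : F) : σ a * σ b = σ b * σ a := by rw [← h.add, add_comm, h.add]

theorem sigma_pow (a : F) (k : ℕ) : σ a ^ k = σ (k • a) := by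
  induction k with
  | zero => rw [pow_zero, zero_smul, h.sigma_zero]
  | succ k ih => rw [pow_succ, ih, succ_nsmul, h.add]

theorem psi_ne {u : G} (hu : u ∈ U) : ψ u ≠ 0 := fun h0 => by
  have := h.psi_norm u hu
  rw [h0, zero_pow M_pos.ne'] at this
  exact zero_ne_one this

theorem psi_one : ψ 1 = 1 := by
  have := h.psi_mul 1 (one_mem U) 1 (one_mem U)
  rw [one_mul] at this
  exact (left_eq_mul₀ (h.psi_ne (one_mem U))).mp this

theorem psi_inv {u : G} (hu : u ∈ U) : ψ u⁻¹ = (ψ u)⁻¹ := by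
  refine eq_inv_of_mul_eq_one_left ?_
  rw [← h.psi_mul _ (inv_mem hu) _ hu, inv_mul_cancel, h.psi_one]

theorem psi_pow {u : G} (hu : u ∈ U) (k : ℕ) : ψ (u ^ k) = ψ u ^ k := by
  induction k with
  | zero => rw [pow_zero, pow_zero, h.psi_one]
  | succ k ih => rw [pow_succ, pow_succ, h.psi_mul _ (pow_mem hu k) _ hu, ih]

theorem ucomm {u v : G} (hu : u ∈ U) (hv : v ∈ U) : u * v = v * u :=
  h.psi_inj (mul_mem hu hv) (mul_mem hv hu)
    (by rw [h.psi_mul _ hu _ hv, h.psi_mul _ hv _ hu, mul_comm])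

/-- Move a field element to the left of an element of `U`. -/
theorem swap {u : G} (hu : u ∈ U) (c : F) : u * σ c = σ (ψ u * c) * u := by
  rw [← h.conj u hu c, inv_mul_cancel_right]

/-- Move a field element to the right of an element of `U`. -/
theorem swap' {u : G} (hu : u ∈ U) (c : F) : σ c * u = u * σ (c / ψ u) := by
  rw [h.swap hu, mul_div_cancel₀ _ (h.psi_ne hu)]

theorem eq_zero_of_mem {c : F} (hc : σ c ∈ U) : c = 0 := by
  have h1 : ψ (σ c) = 1 := by
    have h2 := h.conj _ hc 1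
    rw [h.sigma_comm, mul_inv_cancel_right, mul_one] at h2
    exact (h.inj h2).symm
  refine h.inj ?_
  rw [h.sigma_zero]
  exact h.psi_inj hc (one_mem U) (by rw [h1, h.psi_one])

theorem inA_mul {g k : G} (hg : InA σ U g) (hk : InA σ U k) : InA σ U (g * k) := by
  obtain ⟨c, u, hu, rfl⟩ := hg
  obtain ⟨d, v, hv, rfl⟩ := hk
  refine ⟨c + ψ u * d, u * v, mul_mem hu hv, ?_⟩
  rw [h.add, ← h.conj u hu d]; group

theorem inA_sigma (c : F) : InA σ U (σ c) := ⟨c, 1, one_mem U, (mul_one _).symm⟩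

theorem inA_mem {u : G} (hu : u ∈ U) : InA σ U u := ⟨0, u, hu, by rw [h.sigma_zero, one_mul]⟩

theorem inA_inv {g : G} (hg : InA σ U g) : InA σ U g⁻¹ := by
  obtain ⟨c, u, hu, rfl⟩ := hg
  rw [mul_inv_rev, ← h.sigma_neg]
  exact h.inA_mul (h.inA_mem (inv_mem hu)) (h.inA_sigma _)

theorem sigma_pow_p (c : F) : σ c ^ p = 1 := by
  haveI : CharP F p := (Algebra.charP_iff (ZMod p) F p).mp inferInstance
  rw [h.sigma_pow, nsmul_eq_mul, CharP.cast_eq_zero, zero_mul, h.sigma_zero]

theorem eq_sigma_of_pow {g : G} (hg : InA σ U g) (hp1 : g ^ p = 1) : ∃ c, g = σ c := by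
  obtain ⟨c, u, hu, rfl⟩ := hg
  have hk : ∀ k : ℕ, ∃ d, (σ c * u) ^ k = σ d * u ^ k := by
    intro k
    induction k with
    | zero => exact ⟨0, by rw [pow_zero, pow_zero, h.sigma_zero, one_mul]⟩
    | succ k ih =>
      obtain ⟨d, hd⟩ := ih
      refine ⟨d + ψ (u ^ k) * c, ?_⟩
      rw [pow_succ, hd, h.add, ← h.conj _ (pow_mem hu k), pow_succ]; group
  obtain ⟨d, hd⟩ := hk p
  rw [hp1] at hd
  have hup : u ^ p = σ (-d) := by
    rw [h.sigma_neg]; exact eq_inv_of_mul_eq_one_right hd.symm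
  have hd0 : (-d) = 0 := h.eq_zero_of_mem (hup ▸ pow_mem hu p)
  rw [hd0, h.sigma_zero] at hup
  have hu1 : u = 1 := by
    have h1 : u ^ Nat.card U = 1 := congrArg Subtype.val (pow_card_eq_one' (x := (⟨u, hu⟩ : U)))
    have h2 := pow_gcd_eq_one.mpr ⟨h1, hup⟩
    rwa [h.ucop, pow_one] at h2
  exact ⟨c, by rw [hu1, mul_one]⟩

theorem sc_add (i j : ZMod p) : sc σ (i + j) = sc σ i * sc σ j := by
  simp only [sc, map_add, h.add]

theorem sc_zero : sc σ (0 : ZMod p) = 1 := by simp only [sc, map_zero, h.sigma_zero]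

theorem sc_neg (i : ZMod p) : sc σ (-i) = (sc σ i)⁻¹ := by simp only [sc, map_neg, h.sigma_neg]

theorem tc_add (i j : ZMod p) : tc σ y (i + j) = tc σ y i * tc σ y j := by
  simp only [tc, h.sc_add]; group

theorem tc_zero : tc σ y (0 : ZMod p) = 1 := by simp only [tc, h.sc_zero]; group

theorem tc_neg (i : ZMod p) : tc σ y (-i) = (tc σ y i)⁻¹ := by simp only [tc, h.sc_neg]; group

theorem tc_nsmul (k : ℕ) (i : ZMod p) : tc σ y (k • i) = tc σ y i ^ k := by
  induction k with
  | zero => rw [zero_smul, pow_zero, h.tc_zero]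
  | succ k ih => rw [succ_nsmul, h.tc_add, ih, pow_succ]

theorem phi_mem (i : ZMod p) {u : G} (hu : u ∈ U) : phi σ y i u ∈ U :=
  (Subgroup.mem_normalizer_iff.mp (h.tu i) u).mp hu

theorem phi_mul (i : ZMod p) (u v : G) : phi σ y i (u * v) = phi σ y i u * phi σ y i v := by
  simp only [phi]; group

theorem phi_inv (i : ZMod p) (u : G) : phi σ y i u⁻¹ = (phi σ y i u)⁻¹ := by
  simp only [phi]; group

theorem phi_phi (i j : ZMod p) (u : G) : phi σ y i (phi σ y j u) = phi σ y (i + j) u := by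
  simp only [phi, h.tc_add]; group

theorem phi_zero (u : G) : phi σ y (0 : ZMod p) u = u := by
  simp only [phi, h.tc_zero]; group

theorem phi_swap (i : ZMod p) (u : G) : tc σ y i * u = phi σ y i u * tc σ y i := by
  simp only [phi]; group

theorem phi_swap' (i : ZMod p) (u : G) : u * tc σ y i = tc σ y i * phi σ y (-i) u := by
  simp only [phi, h.tc_neg]; group

theorem q_mem (i : ZMod p) : sc σ i * tc σ y (-i) ∈ Q := by
  rw [h.tc_neg, show sc σ i * (tc σ y i)⁻¹ = sc σ i * y * (sc σ i)⁻¹ * y⁻¹ by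
    simp only [tc]; group]
  exact mul_mem ((Subgroup.mem_normalizer_iff.mp (h.sq i) y).mp h.ymem) (inv_mem h.ymem)

/-- The relation coming from the commutativity of `Q`. -/
theorem rel (a b : ZMod p) :
    tc σ y (-a) * sc σ b * tc σ y (a - b) = sc σ (b - a) * tc σ y (-b) * sc σ a := by
  have h1 := h.qcomm _ (h.q_mem a) _ (h.q_mem b)
  rw [sub_eq_add_neg a b, sub_eq_add_neg b a, add_comm a (-b), h.tc_add, add_comm b (-a), h.sc_add,
    h.sc_neg a]
  calc tc σ y (-a) * sc σ b * (tc σ y (-b) * tc σ y a)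
      = (sc σ a)⁻¹ * (sc σ a * tc σ y (-a) * (sc σ b * tc σ y (-b))) * tc σ y a := by group
    _ = (sc σ a)⁻¹ * sc σ b * tc σ y (-b) * sc σ a := by
        rw [h1, h.tc_neg a]; group

end Config

end CfsgLib.NormOne
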