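import Cfsg.Agent.FGSA.NormOne.Field

/-! There is an element `x ≠ 1` with `x` and `2 - x` of norm one. -/

set_option autoImplicit false
set_option linter.style.haveILetI false
set_option linter.unusedSectionVars false

namespace CfsgLib.NormOne

open Finset

variable {p q : ℕ} [hp : Fact p.Prime] [hq : Fact q.Prime]
variable {F : Type*} [Field F] [Fintype F]

theorem card_normOne [DecidableEq F] (hF : Fintype.card F = p ^ q) :
    (univ.filter (fun x : F => x ^ M p q = 1)).card = M p q := by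
  classical
  have hc : Nat.card Fˣ = M p q * (p - 1) := by
    rw [Nat.card_units, Nat.card_eq_fintype_card, hF, M_mul p q hp.out.one_le]
  have hk : Nat.card (powMonoidHom (M p q) : Fˣ →* Fˣ).ker = M p q := by
    rw [IsCyclic.card_powMonoidHom_ker, hc, Nat.gcd_mul_right_left]
  refine Eq.trans ?_ hk
  rw [Nat.card_eq_fintype_card]
  refine (Finset.card_bij (fun (u : (powMonoidHom (M p q) : Fˣ →* Fˣ).ker) _ => ((u : Fˣ) : F))
    ?_ ?_ ?_).symm
  · rintro ⟨u, hu⟩ -
    simp only [MonoidHom.mem_ker, powMonoidHom_apply] at hu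
    simp only [mem_filter, mem_univ, true_and]
    rw [← Units.val_pow_eq_pow_val, hu, Units.val_one]
  · intro u _ v _ h
    exact Subtype.ext (Units.ext h)
  · intro x hx
    simp only [mem_filter, mem_univ, true_and] at hx
    have hx0 : x ≠ 0 := fun h => by rw [h, zero_pow M_pos.ne'] at hx; exact zero_ne_one hx
    exact ⟨⟨Units.mk0 x hx0, Units.ext hx⟩, mem_univ _, rfl⟩

theorem exists_two_sub_large (hF : Fintype.card F = p ^ q) (h5 : 5 ≤ q)
    (htwo : (2 : F) ≠ 0) :
    ∃ x : F, x ≠ 1 ∧ x ^ M p q = 1 ∧ (2 - x) ^ M p q = 1 := by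
  classical
  set χ : AddChar F ℂ := AddChar.FiniteField.primitiveChar_to_Complex F with hχdef
  have hχ : χ.IsPrimitive := AddChar.FiniteField.primitiveChar_to_Complex_isPrimitive F
  set B := univ.filter (fun x : F => x ^ M p q = 1) with hB
  have hBc : B.card = M p q := card_normOne hF
  have hBmem : ∀ x : F, x ∈ B ↔ x ^ M p q = 1 := fun x => by simp [hB]
  set S : F → ℂ := fun c => ∑ x ∈ B, χ (c * x) with hS
  set N : ℕ := ((B ×ˢ B).filter fun w => w.1 + w.2 - 2 = 0).card with hN
  by_contra hno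
  have hNle : N ≤ 1 := by
    rw [hN, Finset.card_le_one]
    rintro ⟨x, y⟩ hw ⟨x', y'⟩ hw'
    simp only [mem_filter, mem_product, hBmem] at hw hw'
    have key : ∀ x y : F, (x ^ M p q = 1 ∧ y ^ M p q = 1) ∧ x + y - 2 = 0 → x = 1 ∧ y = 1 := by
      rintro x y ⟨⟨hx, hy⟩, hxy⟩
      have hy2 : y = 2 - x := by linear_combination hxy
      have hx1 : x = 1 := by
        by_contra hne
        exact hno ⟨x, hne, hx, hy2 ▸ hy⟩
      refine ⟨hx1, ?_⟩
      rw [hy2, hx1]; norm_num
    rw [(key x y hw).1, (key x y hw).2, (key x' y' hw').1, (key x' y' hw').2]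
  -- the Fourier expansion
  have hmain : ∑ c : F, S c * S c * χ (-(2 * c)) = (Fintype.card F : ℂ) * N := by
    have h1 : ∀ c : F, S c * S c * χ (-(2 * c)) = ∑ w ∈ B ×ˢ B, χ (c * (w.1 + w.2 - 2)) := by
      intro c
      rw [Finset.sum_product, hS, Finset.sum_mul_sum, Finset.sum_mul]
      refine sum_congr rfl fun x _ => ?_
      rw [Finset.sum_mul]
      refine sum_congr rfl fun y _ => ?_
      rw [← AddChar.map_add_eq_mul, ← AddChar.map_add_eq_mul]
      congr 1; ring
    simp only [h1]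
    rw [Finset.sum_comm]
    simp only [AddChar.sum_mulShift _ hχ, Nat.cast_ite, Nat.cast_zero]
    rw [← Finset.sum_filter, Finset.sum_const, nsmul_eq_mul, hN, mul_comm]
  have hpars : ∑ c : F, ‖S c‖ ^ 2 = (Fintype.card F : ℝ) * M p q := by
    have h1 : ∀ c : F, ((‖S c‖ ^ 2 : ℝ) : ℂ) = ∑ x ∈ B, ∑ y ∈ B, χ (c * (x - y)) := by
      intro c
      rw [Complex.ofReal_pow, ← Complex.mul_conj', hS, map_sum, Finset.sum_mul_sum]
      refine sum_congr rfl fun x _ => sum_congr rfl fun y _ => ?_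
      rw [← AddChar.map_neg_eq_conj, ← AddChar.map_add_eq_mul]
      congr 1; ring
    have h2 : ((∑ c : F, ‖S c‖ ^ 2 : ℝ) : ℂ) = (((Fintype.card F : ℝ) * M p q : ℝ) : ℂ) := by
      rw [Complex.ofReal_sum]
      simp only [h1]
      rw [Finset.sum_comm]
      simp only [Finset.sum_comm (s := (univ : Finset F)), AddChar.sum_mulShift _ hχ, Nat.cast_ite,
        Nat.cast_zero, sub_eq_zero]
      simp only [Finset.sum_ite_eq]
      rw [Finset.sum_ite_mem, Finset.inter_self, Finset.sum_const, hBc, nsmul_eq_mul]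
      push_cast; ring
    exact_mod_cast h2
  have hinv : ∀ c : F, ∀ b ∈ B, S (c * b) = S c := by
    intro c b hb
    have hb1 := (hBmem b).mp hb
    have hb0 : b ≠ 0 := fun h => by rw [h, zero_pow M_pos.ne'] at hb1; exact zero_ne_one hb1
    refine Finset.sum_nbij' (fun x => b * x) (fun x => b⁻¹ * x) ?_ ?_ ?_ ?_ ?_
    · intro x hx; rw [hBmem, mul_pow, hb1, one_mul]; exact (hBmem x).mp hx
    · intro x hx; rw [hBmem, mul_pow, inv_pow, hb1, inv_one, one_mul]; exact (hBmem x).mp hx
    · intro x _; exact inv_mul_cancel_left₀ hb0 x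
    · intro x _; exact mul_inv_cancel_left₀ hb0 x
    · intro x _; rw [mul_assoc]
  have hMpos : (0 : ℝ) < M p q := by exact_mod_cast (M_pos (p := p) (q := q))
  have hbound : ∀ d : F, d ≠ 0 → ‖S d‖ ≤ Real.sqrt (Fintype.card F) := by
    intro d hd
    apply Real.le_sqrt_of_sq_le
    have h1 : (M p q : ℝ) * ‖S d‖ ^ 2 ≤ ∑ c : F, ‖S c‖ ^ 2 := by
      calc (M p q : ℝ) * ‖S d‖ ^ 2 = ∑ b ∈ B, ‖S (d * b)‖ ^ 2 := by
            rw [Finset.sum_congr rfl fun b hb => by rw [hinv d b hb], Finset.sum_const, hBc,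
              nsmul_eq_mul]
        _ = ∑ c ∈ B.image (d * ·), ‖S c‖ ^ 2 := by
            rw [Finset.sum_image fun a _ b _ h => mul_left_cancel₀ hd h]
        _ ≤ _ := Finset.sum_le_sum_of_subset_of_nonneg (subset_univ _) fun _ _ _ => by positivity
    rw [hpars, mul_comm (Fintype.card F : ℝ)] at h1
    exact le_of_mul_le_mul_left h1 hMpos
  set Z := (univ : Finset F).erase 0 with hZ
  set Err := ∑ c ∈ Z, S c * S c * χ (-(2 * c)) with hErr
  have hErr' : (M p q : ℂ) * Err = ∑ c ∈ Z, S c * S c * S (-(2 * c)) := by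
    have h1 : ∀ b ∈ B, Err = ∑ c ∈ Z, S c * S c * χ (-(2 * c) * b) := by
      intro b hb
      have hb1 := (hBmem b).mp hb
      have hb0 : b ≠ 0 := fun h => by rw [h, zero_pow M_pos.ne'] at hb1; exact zero_ne_one hb1
      refine (Finset.sum_nbij' (fun c => c * b) (fun c => c * b⁻¹) ?_ ?_ ?_ ?_ ?_).symm
      · intro c hc; simpa [hZ, hb0] using hc
      · intro c hc; simpa [hZ, hb0] using hc
      · intro c _; exact mul_inv_cancel_right₀ hb0 c
      · intro c _; exact inv_mul_cancel_right₀ hb0 c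
      · intro c _; rw [hinv c b hb, show -(2 * (c * b)) = -(2 * c) * b by ring]
    calc (M p q : ℂ) * Err = ∑ _b ∈ B, Err := by rw [Finset.sum_const, hBc, nsmul_eq_mul]
      _ = ∑ b ∈ B, ∑ c ∈ Z, S c * S c * χ (-(2 * c) * b) := Finset.sum_congr rfl h1
      _ = ∑ c ∈ Z, S c * S c * S (-(2 * c)) := by
          rw [Finset.sum_comm]
          refine sum_congr rfl fun c _ => ?_
          rw [hS, ← Finset.mul_sum]
  set Q := Real.sqrt (Fintype.card F) with hQ
  have hle : ‖Err‖ ≤ (Fintype.card F : ℝ) * Q := by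
    have h1 : (M p q : ℝ) * ‖Err‖ ≤ (M p q : ℝ) * ((Fintype.card F : ℝ) * Q) := by
      calc (M p q : ℝ) * ‖Err‖ = ‖(M p q : ℂ) * Err‖ := by rw [norm_mul, Complex.norm_natCast]
        _ ≤ ∑ c ∈ Z, ‖S c * S c * S (-(2 * c))‖ := by rw [hErr']; exact norm_sum_le _ _
        _ ≤ ∑ c ∈ Z, ‖S c‖ ^ 2 * Q := by
            refine Finset.sum_le_sum fun c hc => ?_
            rw [norm_mul, norm_mul, ← pow_two]
            exact mul_le_mul_of_nonneg_left
              (hbound _ (neg_ne_zero.mpr (mul_ne_zero htwo (Finset.mem_erase.mp hc).1))) (by positivity)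
        _ ≤ (∑ c : F, ‖S c‖ ^ 2) * Q := by
            rw [← Finset.sum_mul]
            exact mul_le_mul_of_nonneg_right (Finset.sum_le_sum_of_subset_of_nonneg (subset_univ _)
              fun _ _ _ => by positivity) (Real.sqrt_nonneg _)
        _ = _ := by rw [hpars]; ring
    exact le_of_mul_le_mul_left h1 hMpos
  have hS0 : S 0 = M p q := by
    simp [hS, hBc]
  have heq : ((M p q : ℂ)) ^ 2 = (Fintype.card F : ℂ) * N - Err := by
    rw [← hmain, ← Finset.sum_erase_add _ _ (mem_univ (0 : F)), hS0, mul_zero, neg_zero,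
      AddChar.map_zero_eq_one, mul_one, hErr, hZ]
    ring
  have hfin : (M p q : ℝ) ^ 2 ≤ (Fintype.card F : ℝ) * (1 + Q) := by
    have h1 := congrArg (fun z : ℂ => ‖z‖) heq
    simp only [norm_pow, Complex.norm_natCast] at h1
    rw [h1]
    refine (norm_sub_le _ _).trans ?_
    rw [norm_mul, Complex.norm_natCast, Complex.norm_natCast, mul_add, mul_one]
    refine add_le_add ?_ hle
    calc (Fintype.card F : ℝ) * N ≤ (Fintype.card F : ℝ) * 1 :=
          mul_le_mul_of_nonneg_left (by exact_mod_cast hNle) (by positivity)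
      _ = _ := mul_one _
  -- `M > p ^ (q - 1)` is too large for that
  obtain ⟨j, rfl⟩ : ∃ j, q = j + 5 := ⟨q - 5, by omega⟩
  have hp2 : (2 : ℝ) ≤ (p : ℝ) := by exact_mod_cast hp.out.two_le
  have hlow : (p : ℝ) ^ (j + 4) ≤ (M p (j + 5) : ℝ) := by
    exact_mod_cast (pow_lt_M (p := p) (q := j + 5)).le
  set y := Real.sqrt p with hy
  have hy2 : y ^ 2 = (p : ℝ) := Real.sq_sqrt (by positivity)
  have hy1 : (1.4 : ℝ) ≤ y := by
    nlinarith [Real.sqrt_nonneg (p : ℝ), hy2, hy]
  have hQy : Q = y ^ (j + 5) := by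
    rw [hQ, hF, Nat.cast_pow, ← hy2, ← pow_mul, mul_comm, pow_mul]
    exact Real.sqrt_sq (by positivity)
  rw [hF, Nat.cast_pow, hQy, ← hy2] at hfin
  rw [← hy2] at hlow
  have h6 : (y ^ 2) ^ (j + 5) * (y ^ 2) ^ (j + 3) ≤ (y ^ 2) ^ (j + 5) * (1 + y ^ (j + 5)) := by
    refine le_trans ?_ hfin
    rw [← pow_add, show j + 5 + (j + 3) = (j + 4) * 2 by omega, pow_mul]
    exact pow_le_pow_left₀ (by positivity) hlow 2
  have h7 := le_of_mul_le_mul_left h6 (by positivity)
  have h8 : y ^ (j + 5) * (y * y ^ j) ≤ 1 + y ^ (j + 5) := by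
    calc y ^ (j + 5) * (y * y ^ j) = (y ^ 2) ^ (j + 3) := by ring
      _ ≤ _ := h7
  have h9 : (1.4 : ℝ) ^ 5 ≤ y ^ (j + 5) :=
    le_trans (pow_le_pow_left₀ (by norm_num) hy1 5) (pow_le_pow_right₀ (by linarith) (by omega))
  have h10 : 1.4 ≤ y * y ^ j := by
    calc (1.4 : ℝ) ≤ y * 1 := by linarith
      _ ≤ _ := mul_le_mul_of_nonneg_left (one_le_pow₀ (by linarith)) (by positivity)
  nlinarith [mul_le_mul_of_nonneg_left h10 (show (0 : ℝ) ≤ y ^ (j + 5) by positivity)]

variable [Algebra (ZMod p) F]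

theorem exists_two_sub_three (hF : Fintype.card F = p ^ 3) (h3 : 3 < p) :
    ∃ x : F, x ≠ 1 ∧ x ^ M p 3 = 1 ∧ (2 - x) ^ M p 3 = 1 := by
  classical
  haveI : CharP F p := (Algebra.charP_iff (ZMod p) F p).mp inferInstance
  have h2 : (2 : ZMod p) ≠ 0 := by
    rw [show (2 : ZMod p) = ((2 : ℕ) : ZMod p) by norm_num, Ne, ZMod.natCast_eq_zero_iff]
    intro h; have := Nat.le_of_dvd (by norm_num) h; omega
  obtain ⟨T, hT⟩ : ∃ T : ZMod p, T ∉ (((univ : Finset (ZMod p)).erase 0).erase 2).image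
      (fun x => (x ^ 3 - 3 * x - 1) / (x ^ 2 - 2 * x)) := by
    by_contra h
    simp only [not_exists, not_not] at h
    have h1 := Finset.card_le_card (s := (univ : Finset (ZMod p))) fun T _ => h T
    have h4 := h1.trans Finset.card_image_le
    rw [card_univ, ZMod.card, Finset.card_erase_of_mem (by simp [h2]),
      Finset.card_erase_of_mem (mem_univ _), card_univ, ZMod.card] at h4
    omega
  have hnoroot : ∀ x : ZMod p, x ^ 3 - T * x ^ 2 + (2 * T - 3) * x - 1 ≠ 0 := by
    intro x hx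
    have hx0 : x ≠ 0 := fun h => by simp [h] at hx
    have hx2 : x ≠ 2 := fun h => by
      subst h
      have : (1 : ZMod p) = 0 := by linear_combination hx
      exact one_ne_zero this
    refine hT (mem_image.mpr ⟨x, by simp [hx0, hx2], ?_⟩)
    rw [div_eq_iff]
    · linear_combination hx
    · rw [show x ^ 2 - 2 * x = x * (x - 2) by ring]
      exact mul_ne_zero hx0 (sub_ne_zero.mpr hx2)
  set f : Polynomial (ZMod p) := .X ^ 3 - .C T * .X ^ 2 + .C (2 * T - 3) * .X - .C 1 with hf
  have hdeg : f.natDegree = 3 := by rw [hf]; compute_degree!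
  have hirr : Irreducible f := Polynomial.irreducible_of_degree_le_three_of_not_isRoot
    (by rw [hdeg]; simp) fun x hx => hnoroot x (by
      rw [Polynomial.IsRoot.def, hf] at hx
      simpa using hx)
  haveI : Fact (Irreducible f) := ⟨hirr⟩
  haveI : Module.Finite (ZMod p) (AdjoinRoot f) := (AdjoinRoot.powerBasis hirr.ne_zero).finite
  haveI : Finite (AdjoinRoot f) := Module.finite_of_finite (ZMod p)
  letI : Fintype (AdjoinRoot f) := Fintype.ofFinite _
  have hc : Fintype.card (AdjoinRoot f) = Fintype.card F := by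
    rw [hF, Module.card_eq_pow_finrank (K := ZMod p), ZMod.card,
      (AdjoinRoot.powerBasis hirr.ne_zero).finrank, AdjoinRoot.powerBasis_dim, hdeg]
  set e := FiniteField.algEquivOfCardEq p hc
  set a := e (AdjoinRoot.root f) with ha
  set t := algebraMap (ZMod p) F T
  have hroot : a ^ 3 - t * a ^ 2 + (2 * t - 3) * a - 1 = 0 := by
    have h := Polynomial.aeval_algHom_apply e (AdjoinRoot.root f) f
    rw [AdjoinRoot.aeval_eq, AdjoinRoot.mk_self, map_zero] at h
    simpa [hf, ← ha, map_zero, t, map_ofNat] using h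
  have hfrob : ∀ x : F, x ^ 3 - t * x ^ 2 + (2 * t - 3) * x - 1 = 0 →
      (x ^ p) ^ 3 - t * (x ^ p) ^ 2 + (2 * t - 3) * x ^ p - 1 = 0 := by
    intro x hx
    have h := congrArg (frobenius F p) hx
    have ht : t ^ p = t := by rw [← map_pow, ZMod.pow_card]
    simpa [frobenius_def, map_sub, map_add, map_mul, map_pow, map_ofNat, ht, zero_pow hp.out.ne_zero] using h
  set b := a ^ p with hb
  set c := b ^ p with hc'
  have hb0 := hfrob a hroot
  have hc0 := hfrob b hb0
  have hab : b ≠ a := fun h => by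
    obtain ⟨n, hn⟩ := mem_prime_of_pow (p := p) (x := a) h
    rw [← hn, show t = algebraMap (ZMod p) F T from rfl] at hroot
    apply hnoroot n
    apply (algebraMap (ZMod p) F).injective
    simp only [map_sub, map_add, map_mul, map_pow, map_ofNat, map_one, map_zero]
    exact hroot
  have hca : c ≠ a := fun h => hab (by
    have h1 : c ^ p = a := by rw [hc', hb, ← pow_mul, ← pow_mul, show p * (p * p) = p ^ 3 by ring,
      ← hF, FiniteField.pow_card]
    rw [h] at h1; exact h1)
  have hcb : c ≠ b := fun h => hab (frobenius_inj F p (by simpa [frobenius_def, ← hb, ← hc'] using h))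
  have hsum : a + b + c = t := by
    have h1 : (b - a) * (a ^ 2 + a * b + b ^ 2 - t * (a + b) + (2 * t - 3)) = 0 := by
      linear_combination hb0 - hroot
    have h2 : (c - a) * (a ^ 2 + a * c + c ^ 2 - t * (a + c) + (2 * t - 3)) = 0 := by
      linear_combination hc0 - hroot
    have h1' := (mul_eq_zero.mp h1).resolve_left (sub_ne_zero.mpr hab)
    have h2' := (mul_eq_zero.mp h2).resolve_left (sub_ne_zero.mpr hca)
    have h3' : (c - b) * (a + b + c - t) = 0 := by linear_combination h2' - h1'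
    exact sub_eq_zero.mp ((mul_eq_zero.mp h3').resolve_left (sub_ne_zero.mpr hcb))
  have hpair : a * b + b * c + c * a = 2 * t - 3 := by
    have h1 : (b - a) * (a ^ 2 + a * b + b ^ 2 - t * (a + b) + (2 * t - 3)) = 0 := by
      linear_combination hb0 - hroot
    have h1' := (mul_eq_zero.mp h1).resolve_left (sub_ne_zero.mpr hab)
    linear_combination (a + b) * hsum - h1'
  have hprod : a * b * c = 1 := by
    linear_combination hroot - a ^ 2 * hsum + a * hpair
  have hexp : ∀ x : F, x ^ M p 3 = x * x ^ p * (x ^ p) ^ p := fun x => by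
    simp only [M, Finset.sum_range_succ, Finset.sum_range_zero, zero_add, pow_zero, pow_one,
      pow_add, pow_two, pow_mul]
  refine ⟨a, fun h => hab (by rw [hb, h, one_pow]), by rw [hexp, hprod], ?_⟩
  have hsub : ∀ x : F, (2 - x) ^ p = 2 - x ^ p := fun x => by
    rw [sub_pow_char]
    congr 1
    rw [show (2 : F) = algebraMap (ZMod p) F 2 by rw [map_ofNat], ← map_pow, ZMod.pow_card]
  rw [hexp, hsub, hsub, ← hb, ← hc']
  linear_combination (-(4 : F)) * hsum + 2 * hpair - hprod

theorem exists_two_sub (hF : Fintype.card F = p ^ q) (hA : (M p q).Coprime (p - 1)) (hpq : q < p) :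
    ∃ x : F, x ≠ 1 ∧ x ^ M p q = 1 ∧ (2 - x) ^ M p q = 1 := by
  have h2 := q_ne_two hA hpq
  have h4 : q ≠ 4 := fun h => absurd (h ▸ hq.out) (by norm_num)
  by_cases h3 : q = 3
  · subst h3
    exact exists_two_sub_three hF hpq
  · refine exists_two_sub_large hF (by have := hq.out.two_le; omega) ?_
    haveI : CharP F p := (Algebra.charP_iff (ZMod p) F p).mp inferInstance
    rw [show (2 : F) = ((2 : ℕ) : F) by norm_num, Ne, CharP.cast_eq_zero_iff F p]
    intro h
    have := Nat.le_of_dvd (by norm_num) h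
    have := hq.out.two_le
    omega

end CfsgLib.NormOne
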