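import Cfsg.Agent.FGSA.NormOne.Rigid

/-! The relation `T(-2m) S(N) T(m) = S(l) T(-m) S(j)` forces `N = m`. -/

set_option autoImplicit false
set_option linter.style.haveILetI false
set_option linter.unusedSectionVars false

namespace CfsgLib.NormOne

variable {p q : ℕ} [hp : Fact p.Prime] [hq : Fact q.Prime]
variable {F : Type*} [Field F] [Fintype F] [Algebra (ZMod p) F]
variable {G : Type*} [Group G] [Finite G]
variable {σ : F → G} {ψ : G → F} {U Q : Subgroup G} {y : G}

/-- The conjugates of `y` under the prime field. -/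
def ec (σ : F → G) (y : G) (i : ZMod p) : G := sc σ i * y * (sc σ i)⁻¹

namespace Config

variable (h : Config p q σ ψ U Q y)
include h

theorem ec_mem (i : ZMod p) : ec σ y i ∈ Q :=
  (Subgroup.mem_normalizer_iff.mp (h.sq i) y).mp h.ymem

theorem sc_ec (k i : ZMod p) : sc σ k * ec σ y i = ec σ y (k + i) * sc σ k := by
  simp only [ec, h.sc_add]; group

theorem tc_eq (i : ZMod p) : tc σ y i = ec σ y (0 : ZMod p) * (ec σ y i)⁻¹ * sc σ i := by
  simp only [tc, ec, h.sc_zero]; group

theorem sc_inj {i j : ZMod p} (e : sc σ i = sc σ j) : i = j :=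
  (algebraMap (ZMod p) F).injective (h.inj e)

theorem endgame {m N l j : ZMod p} (hm : m ≠ 0) (hN : N ≠ 0)
    (heq : tc σ y (-(2 * m)) * sc σ N * tc σ y m = sc σ l * tc σ y (-m) * sc σ j) : N = m := by
  classical
  let q' : ZMod p → Q := fun i => ⟨ec σ y i, h.ec_mem i⟩
  letI : CommGroup Q :=
    { (inferInstance : Group Q) with mul_comm := fun a b => Subtype.ext (h.qcomm a a.2 b b.2) }
  have hL : tc σ y (-(2 * m)) * sc σ N * tc σ y m =
      ((q' 0 * (q' (-(2 * m)))⁻¹ * q' (N - 2 * m) * (q' (N - m))⁻¹ : Q) : G) * sc σ (N - m) := by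
    simp only [q', Subgroup.coe_mul, Subgroup.coe_inv, h.tc_eq]
    have e1 : sc σ (-(2 * m)) * sc σ N = sc σ (N - 2 * m) := by
      rw [← h.sc_add]; congr 1; ring
    have e2 : sc σ (N - 2 * m) * ec σ y (0 : ZMod p) * (ec σ y m)⁻¹ * sc σ m =
        ec σ y (N - 2 * m) * (ec σ y (N - m))⁻¹ * sc σ (N - m) := by
      rw [show N - m = (N - 2 * m) + m by ring, h.sc_add, h.sc_ec]
      simp only [ec, h.sc_add, h.sc_zero, add_zero]; group
    calc ec σ y (0 : ZMod p) * (ec σ y (-(2 * m)))⁻¹ * sc σ (-(2 * m)) * sc σ N *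
          (ec σ y (0 : ZMod p) * (ec σ y m)⁻¹ * sc σ m)
        = ec σ y (0 : ZMod p) * (ec σ y (-(2 * m)))⁻¹ * (sc σ (N - 2 * m) * ec σ y (0 : ZMod p) * (ec σ y m)⁻¹ * sc σ m) := by
          rw [← e1]; group
      _ = _ := by rw [e2]; group
  have hR : sc σ l * tc σ y (-m) * sc σ j =
      ((q' l * (q' (l - m))⁻¹ : Q) : G) * sc σ (l - m + j) := by
    simp only [q', Subgroup.coe_mul, Subgroup.coe_inv, h.tc_eq]
    rw [show l - m + j = l + (-m) + j by ring, show l - m = l + (-m) by ring]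
    simp only [ec, h.sc_add, h.sc_zero]; group
  rw [hL, hR] at heq
  set α := q' 0 * (q' (-(2 * m)))⁻¹ * q' (N - 2 * m) * (q' (N - m))⁻¹ with hα
  set β := q' l * (q' (l - m))⁻¹ with hβ
  have hx : sc σ (N - m - (l - m + j)) = ((α⁻¹ * β : Q) : G) := by
    rw [show N - m - (l - m + j) = (N - m) + -(l - m + j) by ring, h.sc_add, h.sc_neg,
      Subgroup.coe_mul, Subgroup.coe_inv]
    calc sc σ (N - m) * (sc σ (l - m + j))⁻¹
        = (α : G)⁻¹ * ((α : G) * sc σ (N - m)) * (sc σ (l - m + j))⁻¹ := by group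
      _ = _ := by rw [heq]; group
  have hone := h.qp _ (α⁻¹ * β).2 (by rw [← hx]; exact h.sigma_pow_p _)
  have hαβ : α = β := by
    have : α⁻¹ * β = 1 := Subtype.ext hone
    exact inv_mul_eq_one.mp this
  -- a product fixed by every translation
  set D : ZMod p → Q := fun k =>
    q' (-m + k) * q' (-(2 * m) + k) * (q' (N - 2 * m + k) * q' (l - m + k))⁻¹ with hD
  have key : q' 0 * q' (N - 2 * m) * q' (l - m) = q' (-(2 * m)) * q' (N - m) * q' l := by
    rw [hα, hβ] at hαβ
    calc q' 0 * q' (N - 2 * m) * q' (l - m)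
        = (q' 0 * (q' (-(2 * m)))⁻¹ * q' (N - 2 * m) * (q' (N - m))⁻¹) * (q' (l - m)) *
            (q' (-(2 * m)) * q' (N - m)) := by simp [mul_assoc, mul_comm, mul_left_comm]
      _ = _ := by rw [hαβ]; simp [mul_assoc, mul_comm, mul_left_comm]
  have hshift : ∀ k : ZMod p, sc σ k * (D 0 : G) * (sc σ k)⁻¹ = D k := by
    intro k
    have he : ∀ i : ZMod p, MulAut.conj (sc σ k) (ec σ y i) = ec σ y (i + k) := fun i => by
      rw [MulAut.conj_apply, h.sc_ec, add_comm k i]; group
    show MulAut.conj (sc σ k) (D 0 : G) = _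
    simp only [hD, q', Subgroup.coe_mul, Subgroup.coe_inv, map_mul, map_inv, he, add_zero]
  have hDm : D m = D 0 := by
    simp only [hD, add_zero, show -m + m = (0 : ZMod p) by ring,
      show -(2 * m) + m = -m by ring, show N - 2 * m + m = N - m by ring,
      show l - m + m = l by ring]
    rw [← div_eq_mul_inv, ← div_eq_mul_inv, div_eq_div_iff_mul_eq_mul]
    calc q' 0 * q' (-m) * (q' (N - 2 * m) * q' (l - m))
        = q' (-m) * (q' 0 * q' (N - 2 * m) * q' (l - m)) := by ac_rfl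
      _ = _ := by rw [key]; ac_rfl
  have hfix : ∀ k : ZMod p, D k = D 0 := by
    have hj : ∀ i : ℕ, D (i • m) = D 0 := by
      intro i
      induction i with
      | zero => rw [zero_smul]
      | succ i ih =>
        refine Subtype.ext ?_
        rw [succ_nsmul, ← hshift, h.sc_add, show sc σ (i • m) * sc σ m * (D 0 : G) *
          (sc σ (i • m) * sc σ m)⁻¹ =
          sc σ (i • m) * (sc σ m * (D 0 : G) * (sc σ m)⁻¹) * (sc σ (i • m))⁻¹ by group,
          hshift, hDm, hshift, ih]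
    intro k
    have : (k * m⁻¹).val • m = k := by
      rw [nsmul_eq_mul, ZMod.natCast_zmod_val, mul_assoc, inv_mul_cancel₀ hm, mul_one]
    rw [← this]
    exact hj _
  have hD1 : D 0 = 1 := by
    refine Subtype.ext (h.qp _ (D 0).2 ?_)
    rw [← Subgroup.coe_pow, ← Subgroup.coe_one Q]
    congr 1
    have hprod : ∏ k : ZMod p, D k = (D 0) ^ p := by
      rw [Finset.prod_congr rfl fun k _ => hfix k, Finset.prod_const, Finset.card_univ, ZMod.card]
    rw [← hprod]
    simp only [hD, Finset.prod_mul_distrib, Finset.prod_inv_distrib]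
    have e : ∀ c : ZMod p, ∏ k : ZMod p, q' (c + k) = ∏ k : ZMod p, q' k := fun c =>
      Equiv.prod_comp (Equiv.addLeft c) q'
    simp only [e, mul_inv_cancel]
  have h2m := (hfix (2 * m)).trans hD1
  simp only [hD, show -m + 2 * m = m by ring, show -(2 * m) + 2 * m = (0 : ZMod p) by ring,
    show N - 2 * m + 2 * m = N by ring, show l - m + 2 * m = l + m by ring] at h2m
  rw [mul_inv_eq_one] at h2m
  have h2m' : q' 0 * (q' N)⁻¹ = q' (l + m) * (q' m)⁻¹ := by
    rw [mul_inv_eq_iff_eq_mul]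
    calc q' 0 = (q' m)⁻¹ * (q' m * q' 0) := by group
      _ = _ := by rw [h2m]; simp [mul_assoc, mul_comm, mul_left_comm]
  have hT : tc σ y N = sc σ (m + l) * tc σ y (-l) * sc σ (N - m) := by
    have h3 := congrArg Subtype.val h2m'
    simp only [q', Subgroup.coe_mul, Subgroup.coe_inv] at h3
    rw [h.tc_eq, h.tc_eq, h3, add_comm l m]
    simp only [ec, h.sc_zero]
    rw [show sc σ (N - m) = sc σ N * (sc σ m)⁻¹ by
      rw [← h.sc_neg, ← h.sc_add, sub_eq_add_neg]]
    rw [h.sc_add m l, h.sc_neg l]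
    have hc : sc σ N * (sc σ m)⁻¹ = (sc σ m)⁻¹ * sc σ N := by
      rw [← h.sc_neg, ← h.sc_add, ← h.sc_add, add_comm]
    rw [hc]; group
  by_cases hl : l = 0
  · refine absurd ?_ (h.tc_ne_sigma hN (algebraMap (ZMod p) F N))
    rw [hT, hl, neg_zero, h.tc_zero, mul_one, add_zero, ← h.sc_add, add_sub_cancel]
    rfl
  · have h4 : algebraMap (ZMod p) F (N - m) = 0 := h.eq_zero_of_normalize (neg_ne_zero.mpr hl)
      (a := algebraMap (ZMod p) F (m + l)) (hT ▸ h.tu N)
    exact sub_eq_zero.mp ((algebraMap (ZMod p) F).injective (by rw [h4, map_zero]))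

end Config

end CfsgLib.NormOne
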