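import Mathlib

/-! Elements of norm one of the extension of prime degree `q` of the prime field with `p` elements. -/

set_option autoImplicit false
set_option linter.style.haveILetI false
set_option linter.unusedSectionVars false

namespace CfsgLib.NormOne

open Polynomial

/-- The order of the group of elements of norm one. -/
def M (p q : ℕ) : ℕ := ∑ i ∈ Finset.range q, p ^ i

variable {p q : ℕ} [hp : Fact p.Prime] [hq : Fact q.Prime]

theorem M_mul (p q : ℕ) (h : 1 ≤ p) : M p q * (p - 1) = p ^ q - 1 := by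
  obtain ⟨r, rfl⟩ : ∃ r, p = r + 1 := ⟨p - 1, by omega⟩
  unfold M
  have := geom_sum_mul_add r q
  simp only [Nat.add_sub_cancel]
  omega

theorem M_eq_div : M p q = (p ^ q - 1) / (p - 1) := by
  rw [← M_mul p q hp.out.one_le, Nat.mul_div_cancel _ (by have := hp.out.two_le; omega)]

theorem M_pos : 0 < M p q :=
  Finset.sum_pos (fun i _ => pow_pos hp.out.pos i) (by simp [hq.out.ne_zero])

theorem pow_lt_M : p ^ (q - 1) < M p q := by
  have h2 := hq.out.two_le
  unfold M
  rw [show q = (q - 1) + 1 by omega, Finset.sum_range_succ]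
  simp only [Nat.add_sub_cancel]
  have : 0 < ∑ i ∈ Finset.range (q - 1), p ^ i :=
    Finset.sum_pos (fun i _ => pow_pos hp.out.pos i) (by simp; omega)
  omega

theorem p_lt_M : p < M p q :=
  lt_of_le_of_lt (Nat.le_self_pow (by have := hq.out.two_le; omega) p) pow_lt_M

theorem not_dvd_M : ¬ p ∣ M p q := by
  intro h
  unfold M at h
  rw [← Nat.succ_pred_eq_of_pos hq.out.pos, Finset.sum_range_succ', pow_zero] at h
  have h2 : p ∣ ∑ i ∈ Finset.range q.pred, p ^ (i + 1) :=
    Finset.dvd_sum fun i _ => dvd_pow_self p (by omega)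
  exact hp.out.not_dvd_one ((Nat.dvd_add_right h2).mp h)

theorem modEq_M : M p q ≡ q [MOD p - 1] := by
  have h : p ≡ 1 [MOD p - 1] := by
    rw [Nat.ModEq.comm, Nat.modEq_iff_dvd' hp.out.one_le]
  unfold M
  induction q with
  | zero => rfl
  | succ n ih =>
    rw [Finset.sum_range_succ]
    exact ih.add (by simpa using h.pow n)

/-- For odd `p` the coprimality condition forces odd `q`. -/
theorem q_ne_two (hA : (M p q).Coprime (p - 1)) (hpq : q < p) : q ≠ 2 := by
  intro h
  subst h
  have h1 : 2 ∣ p - 1 := by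
    obtain ⟨k, hk⟩ := hp.out.odd_of_ne_two (by omega)
    omega
  have h2 : 2 ∣ M p 2 := (Nat.ModEq.dvd_iff modEq_M h1).mpr dvd_rfl
  have := Nat.dvd_gcd h2 h1
  rw [hA] at this
  omega

variable {F : Type*} [Field F] [Fintype F] [Algebra (ZMod p) F]

theorem finrank_eq (hF : Fintype.card F = p ^ q) : Module.finrank (ZMod p) F = q := by
  have h := Module.card_eq_pow_finrank (K := ZMod p) (V := F)
  rw [hF, ZMod.card] at h
  exact (Nat.pow_right_injective hp.out.two_le h).symm

theorem mem_prime_of_pow {x : F} (h : x ^ p = x) : ∃ n : ZMod p, algebraMap (ZMod p) F n = x := by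
  haveI : CharP F p := (Algebra.charP_iff (ZMod p) F p).mp inferInstance
  classical
  by_contra hno
  simp only [not_exists] at hno
  have hne : (X ^ p - X : F[X]) ≠ 0 := FiniteField.X_pow_card_sub_X_ne_zero F hp.out.one_lt
  have hsub : insert x (Finset.univ.image (algebraMap (ZMod p) F)) ⊆ (X ^ p - X : F[X]).roots.toFinset := by
    intro y hy
    rw [Multiset.mem_toFinset, mem_roots hne, IsRoot.def, eval_sub, eval_pow, eval_X, sub_eq_zero]
    rcases Finset.mem_insert.mp hy with rfl | hy
    · exact h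
    · obtain ⟨n, -, rfl⟩ := Finset.mem_image.mp hy
      rw [← map_pow, ZMod.pow_card]
  have h1 := (Finset.card_le_card hsub).trans (Multiset.toFinset_card_le _)
  have h2 := card_roots' (X ^ p - X : F[X])
  rw [FiniteField.X_pow_card_sub_X_natDegree_eq F hp.out.one_lt] at h2
  rw [Finset.card_insert_of_notMem (by simpa using hno),
    Finset.card_image_of_injective _ (algebraMap (ZMod p) F).injective, Finset.card_univ,
    ZMod.card] at h1
  omega

variable (hF : Fintype.card F = p ^ q) (hA : (M p q).Coprime (p - 1))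

include hA in
/-- The prime field has no element of norm one but `1`. -/
theorem algebraMap_eq_one {n : ZMod p} (h : algebraMap (ZMod p) F n ^ M p q = 1) : n = 1 := by
  have h1 : n ^ M p q = 1 := (algebraMap (ZMod p) F).injective (by rw [map_pow, h, map_one])
  have hn : n ≠ 0 := fun h0 => by
    rw [h0, zero_pow M_pos.ne'] at h1; exact zero_ne_one h1
  have h2 := pow_gcd_eq_one.mpr ⟨h1, ZMod.pow_card_sub_one_eq_one hn⟩
  rwa [hA, pow_one] at h2

include hF hA in
/-- Every nonzero element is the product of a scalar and an element of norm one. -/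
theorem exists_split {x : F} (hx : x ≠ 0) : ∃ n : ZMod p, n ≠ 0 ∧ ∃ α : F, α ^ M p q = 1 ∧
    x = algebraMap (ZMod p) F n * α := by
  classical
  have hc : Nat.card Fˣ = M p q * (p - 1) := by
    rw [Nat.card_units, Nat.card_eq_fintype_card, hF, M_mul p q hp.out.one_le]
  set w : Fˣ := Units.mk0 x hx
  set A := Nat.gcdA (M p q) (p - 1)
  set B := Nat.gcdB (M p q) (p - 1)
  have hAB : (1 : ℤ) = (M p q : ℤ) * A + ((p - 1 : ℕ) : ℤ) * B := by
    have := Nat.gcd_eq_gcd_ab (M p q) (p - 1)
    rw [show Nat.gcd (M p q) (p - 1) = 1 from hA] at this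
    exact_mod_cast this
  have hpow : ∀ i : ℤ, (w ^ i) ^ (M p q * (p - 1)) = 1 := fun i => hc ▸ pow_card_eq_one'
  set a := w ^ ((M p q : ℤ) * A)
  set b := w ^ (((p - 1 : ℕ) : ℤ) * B)
  have hab : w = a * b := by rw [← zpow_add, ← hAB, zpow_one]
  have ha : a ^ (p - 1) = 1 := by
    show (w ^ ((M p q : ℤ) * A)) ^ (p - 1) = 1
    rw [mul_comm, zpow_mul, zpow_natCast, ← pow_mul]; exact hpow A
  have hb : b ^ M p q = 1 := by
    show (w ^ (((p - 1 : ℕ) : ℤ) * B)) ^ M p q = 1
    rw [mul_comm, zpow_mul, zpow_natCast, ← pow_mul, mul_comm (p - 1)]; exact hpow B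
  obtain ⟨n, hn⟩ := mem_prime_of_pow (p := p) (x := (a : F)) (by
    conv_lhs => rw [show p = (p - 1) + 1 by have := hp.out.one_le; omega]
    rw [pow_succ, ← Units.val_pow_eq_pow_val, ha, Units.val_one, one_mul])
  refine ⟨n, fun h0 => a.ne_zero (by rw [← hn, h0, map_zero]), b, ?_, ?_⟩
  · rw [← Units.val_pow_eq_pow_val, hb, Units.val_one]
  · rw [hn, ← Units.val_mul, ← hab]; rfl

include hF hA in
/-- An additive subgroup with the powers of an element of norm one other than `1` is everything. -/
theorem addSubgroup_eq_top {x : F} (hx : x ^ M p q = 1) (hx1 : x ≠ 1) (K : AddSubgroup F)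
    (hK : ∀ k : ℕ, x ^ k ∈ K) : K = ⊤ := by
  have hr := finrank_eq hF
  have : IsSimpleOrder (IntermediateField (ZMod p) F) :=
    IntermediateField.isSimpleOrder_of_finrank_prime (ZMod p) F (hr ▸ hq.out)
  have htop : IntermediateField.adjoin (ZMod p) {x} = ⊤ := by
    refine (IsSimpleOrder.eq_bot_or_eq_top _).resolve_left fun h => ?_
    rw [IntermediateField.adjoin_simple_eq_bot_iff, IntermediateField.mem_bot] at h
    obtain ⟨n, hn⟩ := h
    refine hx1 ?_
    have hn1 : n = 1 := algebraMap_eq_one hA (F := F) (n := n) (by rw [hn]; exact hx)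
    rw [← hn, hn1, map_one]
  have hAdj : Algebra.adjoin (ZMod p) {x} = ⊤ := by
    rw [← IntermediateField.adjoin_simple_toSubalgebra_of_isAlgebraic
      (Algebra.IsAlgebraic.isAlgebraic x), htop, IntermediateField.top_toSubalgebra]
  rw [eq_top_iff]
  intro y _
  have hy : y ∈ Subalgebra.toSubmodule (Algebra.adjoin (ZMod p) ({x} : Set F)) := by
    rw [hAdj]; exact Algebra.mem_top (R := ZMod p)
  rw [Algebra.adjoin_eq_span] at hy
  refine (Submodule.span_le (p := AddSubgroup.toZModSubmodule p K)).mpr ?_ hy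
  intro z hz
  obtain ⟨k, rfl⟩ := Submonoid.mem_closure_singleton.mp hz
  exact hK k

include hF in
/-- If all `a (1 - z) + z` but one have norm one, then `z = 1`. -/
theorem eq_one_of_norms (hpq : q + 1 < p) {z : F}
    (h : ∀ a : ZMod p, a ≠ 2 → (algebraMap (ZMod p) F a * (1 - z) + z) ^ M p q = 1) : z = 1 := by
  classical
  by_contra hz
  haveI : CharP F p := (Algebra.charP_iff (ZMod p) F p).mp inferInstance
  set P : F[X] := (∏ i ∈ Finset.range q, (C ((1 - z) ^ p ^ i) * X + C (z ^ p ^ i))) - 1 with hP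
  have hne : P ≠ 0 := by
    intro h0
    have h1 := congrArg (eval (-z / (1 - z))) h0
    rw [hP, eval_sub, eval_prod, eval_one, eval_zero, Finset.prod_eq_zero (i := 0)
      (Finset.mem_range.mpr hq.out.pos)] at h1
    · simp at h1
    · have : (1 : F) - z ≠ 0 := sub_ne_zero.mpr (Ne.symm hz)
      simp only [pow_zero, pow_one, eval_add, eval_mul, eval_C, eval_X]
      field_simp
      ring
  have hdeg : P.natDegree ≤ q := by
    refine (natDegree_sub_le _ _).trans (max_le ?_ (by simp))
    refine (natDegree_prod_le _ _).trans ?_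
    refine (Finset.sum_le_sum (g := fun _ => 1) fun i _ => natDegree_linear_le).trans ?_
    simp
  have hroot : ∀ a : ZMod p, a ≠ 2 → IsRoot P (algebraMap (ZMod p) F a) := by
    intro a ha
    rw [IsRoot.def, hP, eval_sub, eval_prod, eval_one, sub_eq_zero]
    refine Eq.trans ?_ (h a ha)
    rw [M, ← Finset.prod_pow_eq_pow_sum]
    refine Finset.prod_congr rfl fun i _ => ?_
    simp only [eval_add, eval_mul, eval_C, eval_X]
    rw [add_pow_char_pow, mul_pow, ← map_pow, ZMod.pow_card_pow, mul_comm]
  have hsub : ((Finset.univ : Finset (ZMod p)).erase 2).image (algebraMap (ZMod p) F) ⊆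
      P.roots.toFinset := by
    intro y hy
    obtain ⟨a, ha, rfl⟩ := Finset.mem_image.mp hy
    rw [Multiset.mem_toFinset, mem_roots hne]
    exact hroot a (Finset.mem_erase.mp ha).1
  have h1 := ((Finset.card_le_card hsub).trans (Multiset.toFinset_card_le _)).trans
    ((card_roots' P).trans hdeg)
  rw [Finset.card_image_of_injective _ (algebraMap (ZMod p) F).injective,
    Finset.card_erase_of_mem (Finset.mem_univ _), Finset.card_univ, ZMod.card] at h1
  omega

end CfsgLib.NormOne
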