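import Cfsg.Agent.FGSA.NormOne.Basic

/-! The conjugates of the prime field do not move a nontrivial field element into the product. -/

set_option autoImplicit false
set_option linter.style.haveILetI false
set_option linter.unusedSectionVars false

namespace CfsgLib.NormOne

variable {p q : ℕ} [hp : Fact p.Prime] [hq : Fact q.Prime]
variable {F : Type*} [Field F] [Fintype F] [Algebra (ZMod p) F]
variable {G : Type*} [Group G] [Finite G]
variable {σ : F → G} {ψ : G → F} {U Q : Subgroup G} {y : G}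

namespace Config

variable (h : Config p q σ ψ U Q y)
include h

theorem exists_ne_one : ∃ u ∈ U, ψ u ≠ 1 := by
  obtain ⟨x, hx, hxM, -⟩ := exists_two_sub h.card h.cop h.lt
  obtain ⟨u, hu, rfl⟩ := h.psi_surj x hxM
  exact ⟨u, hu, hx⟩

theorem addSubgroup_top (K : AddSubgroup F) (hK : ∀ u ∈ U, ψ u ∈ K) : K = ⊤ := by
  obtain ⟨u, hu, hu1⟩ := h.exists_ne_one
  refine addSubgroup_eq_top h.card h.cop (h.psi_norm u hu) hu1 K fun k => ?_
  rw [← h.psi_pow hu k]
  exact hK _ (pow_mem hu k)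

/-- A conjugate cannot normalize the field. -/
theorem not_normalize (hall : ∀ c : F, ∃ d : F, tc σ y (1 : ZMod p) * σ c * (tc σ y (1 : ZMod p))⁻¹ = σ d) :
    False := by
  classical
  haveI : CharP F p := (Algebra.charP_iff (ZMod p) F p).mp inferInstance
  choose θ hθ using hall
  set t := tc σ y (1 : ZMod p) with ht
  have hadd : ∀ a b : F, θ (a + b) = θ a + θ b := fun a b => h.inj (by
    rw [h.add, ← hθ a, ← hθ b, ← hθ (a + b), h.add]; group)
  have hsemi : ∀ u ∈ U, ∀ c : F, θ (ψ u * c) = ψ (phi σ y (1 : ZMod p) u) * θ c := fun u hu c => h.inj (by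
    rw [← hθ (ψ u * c), ← h.conj u hu c, ← h.conj _ (h.phi_mem _ hu) (θ c), ← hθ c]
    simp only [phi, ← ht]; group)
  have hiter : ∀ (j : ℕ) (c : F), t ^ j * σ c * (t ^ j)⁻¹ = σ (θ^[j] c) := by
    intro j
    induction j with
    | zero => intro c; simp
    | succ j ih =>
      intro c
      rw [Function.iterate_succ_apply', ← hθ, ← ih, pow_succ']; group
  have htp : t ^ p = 1 := by
    rw [ht, ← h.tc_nsmul, nsmul_eq_mul, ZMod.natCast_self, zero_mul, h.tc_zero]
  have hθp : ∀ c : F, θ^[p] c = c := fun c => h.inj (by rw [← hiter, htp]; group)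
  have hθ0 : θ 0 = 0 := h.inj (by rw [← hθ 0, h.sigma_zero]; group)
  set k := θ 1 with hk
  have hk0 : k ≠ 0 := fun h0 => by
    have h1 := hθ 1
    rw [← hk, h0, h.sigma_zero, conj_eq_one_iff, ← h.sigma_zero] at h1
    exact one_ne_zero (h.inj h1)
  let τ₀ : F → F := fun c => θ c / k
  have hτadd : ∀ a b, τ₀ (a + b) = τ₀ a + τ₀ b := fun a b => by simp only [τ₀, hadd, add_div]
  have hτ1 : τ₀ 1 = 1 := div_self hk0
  have hτU : ∀ u ∈ U, τ₀ (ψ u) = ψ (phi σ y (1 : ZMod p) u) := fun u hu => by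
    have := hsemi u hu 1
    rw [mul_one, ← hk] at this
    simp only [τ₀]
    rw [this, mul_div_assoc, div_self hk0, mul_one]
  have hτ0 : τ₀ 0 = 0 := by simp only [τ₀, hθ0, zero_div]
  let K : AddSubgroup F :=
    { carrier := {x | ∀ c, τ₀ (x * c) = τ₀ x * τ₀ c}
      zero_mem' := fun c => by rw [zero_mul, hτ0, zero_mul]
      add_mem' := fun {a b} ha hb c => by rw [add_mul, hτadd, ha, hb, hτadd, add_mul]
      neg_mem' := fun {a} ha c => by
        have hn : ∀ z, τ₀ (-z) = -τ₀ z := fun z =>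
          eq_neg_of_add_eq_zero_left (by rw [← hτadd, neg_add_cancel, hτ0])
        rw [neg_mul, hn, ha, hn, neg_mul] }
  have hK : K = ⊤ := h.addSubgroup_top K fun u hu c => by
    show τ₀ (ψ u * c) = τ₀ (ψ u) * τ₀ c
    rw [hτU u hu]
    simp only [τ₀]
    rw [hsemi u hu c, mul_div_assoc]
  let τr : F →+* F :=
    { toFun := τ₀
      map_one' := hτ1
      map_mul' := fun a b => (show a ∈ K from hK ▸ AddSubgroup.mem_top a) b
      map_zero' := hτ0
      map_add' := hτadd }
  have hτc : ∀ r : ZMod p, τr (algebraMap (ZMod p) F r) = algebraMap (ZMod p) F r := fun r =>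
    RingHom.congr_fun
      (Subsingleton.elim (τr.comp (algebraMap (ZMod p) F)) (algebraMap (ZMod p) F)) r
  let τa : F →ₐ[ZMod p] F := { τr with commutes' := hτc }
  let τ : F ≃ₐ[ZMod p] F := AlgEquiv.ofBijective τa
    ⟨τa.toRingHom.injective, Finite.surjective_of_injective τa.toRingHom.injective⟩
  have hθτ : ∀ c, θ c = k * τ c := fun c => (mul_div_cancel₀ (θ c) hk0).symm
  have hit : ∀ j : ℕ, ∃ L : F, ∀ c, θ^[j] c = L * (τ ^ j) c := by
    intro j
    induction j with
    | zero => exact ⟨1, fun c => by simp⟩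
    | succ j ih =>
      obtain ⟨L, hL⟩ := ih
      refine ⟨k * τ L, fun c => ?_⟩
      rw [Function.iterate_succ_apply', hL, hθτ, map_mul, pow_succ', AlgEquiv.mul_apply, mul_assoc]
  obtain ⟨L, hL⟩ := hit p
  have hL1 : L = 1 := by
    have := hL 1
    rwa [hθp, map_one, mul_one, eq_comm] at this
  have hτp : τ ^ p = 1 := AlgEquiv.ext fun c => by
    have := hL c
    rw [hθp, hL1, one_mul] at this
    exact this.symm
  have hτq : τ ^ q = 1 := by
    have := pow_card_eq_one' (x := τ)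
    rwa [IsGalois.card_aut_eq_finrank, finrank_eq h.card] at this
  have hτ : τ = 1 := by
    have h2 := pow_gcd_eq_one.mpr ⟨hτp, hτq⟩
    rwa [(Nat.coprime_primes hp.out hq.out).mpr h.lt.ne', pow_one] at h2
  have hθk : ∀ c, θ c = k * c := fun c => by rw [hθτ, hτ]; rfl
  have hk1 : k = 1 := by
    have h1 : ∀ j : ℕ, θ^[j] 1 = k ^ j := fun j => by
      induction j with
      | zero => simp
      | succ j ih => rw [Function.iterate_succ_apply', ih, hθk, pow_succ']
    refine frobenius_inj F p ?_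
    rw [frobenius_def, frobenius_def, one_pow, ← h1, hθp]
  have hcomm : ∀ c, t * σ c * t⁻¹ = σ c := fun c => by rw [hθ, hθk, hk1, one_mul]
  -- the prime field itself normalizes `U`
  have hts : t = sc σ (1 : ZMod p) := by
    set s := sc σ (1 : ZMod p) with hs
    have hz : s * t⁻¹ ∈ Q := by rw [ht, ← h.tc_neg]; exact h.q_mem 1
    have hst : Commute s t⁻¹ :=
      (show Commute s t from ((mul_inv_eq_iff_eq_mul.mp (hcomm _)).symm)).inv_right
    have h1 := h.qp _ hz (by
      rw [hst.mul_pow, inv_pow, htp, hs]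
      simp only [sc, h.sigma_pow_p]; group)
    exact (mul_inv_eq_one.mp h1).symm
  obtain ⟨u, hu, hu1⟩ := h.exists_ne_one
  have h1 : t * u * t⁻¹ ∈ U := (Subgroup.mem_normalizer_iff.mp (h.tu 1) u).mp hu
  rw [hts, show sc σ (1 : ZMod p) = σ 1 by simp only [sc, map_one], mul_assoc, ← h.sigma_neg,
    h.swap hu, ← mul_assoc, ← h.add] at h1
  have h2 : σ (1 + ψ u * -1) ∈ U := by
    have := mul_mem h1 (inv_mem hu)
    rwa [mul_inv_cancel_right] at this
  exact hu1 (by linear_combination -(h.eq_zero_of_mem h2))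

/-- The key rigidity. -/
theorem rigid {i : ZMod p} (hi : i ≠ 0) {c : F}
    (hc : InA σ U (tc σ y i * σ c * (tc σ y i)⁻¹)) : c = 0 := by
  by_contra hc0
  let K : AddSubgroup F :=
    { carrier := {x | InA σ U (tc σ y i * σ (x * c) * (tc σ y i)⁻¹)}
      zero_mem' := by
        show InA σ U _
        rw [zero_mul, h.sigma_zero, mul_one, mul_inv_cancel]; exact h.inA_mem (one_mem U)
      add_mem' := fun {a b} ha hb => by
        show InA σ U _
        rw [add_mul, h.add, show tc σ y i * (σ (a * c) * σ (b * c)) * (tc σ y i)⁻¹ =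
          (tc σ y i * σ (a * c) * (tc σ y i)⁻¹) * (tc σ y i * σ (b * c) * (tc σ y i)⁻¹) by group]
        exact h.inA_mul ha hb
      neg_mem' := fun {a} ha => by
        show InA σ U _
        rw [neg_mul, h.sigma_neg, ← conj_inv]
        exact h.inA_inv ha }
  have hK : K = ⊤ := h.addSubgroup_top K fun u hu => by
    show InA σ U _
    rw [← h.conj u hu c, show tc σ y i * (u * σ c * u⁻¹) * (tc σ y i)⁻¹ =
      phi σ y i u * (tc σ y i * σ c * (tc σ y i)⁻¹) * (phi σ y i u)⁻¹ by simp only [phi]; group]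
    exact h.inA_mul (h.inA_mul (h.inA_mem (h.phi_mem i hu)) hc)
      (h.inA_inv (h.inA_mem (h.phi_mem i hu)))
  have hall : ∀ d : F, ∃ e, tc σ y i * σ d * (tc σ y i)⁻¹ = σ e := fun d => by
    refine h.eq_sigma_of_pow ?_ (by rw [conj_pow, h.sigma_pow_p]; group)
    have : d / c ∈ K := hK ▸ AddSubgroup.mem_top _
    have h2 : InA σ U (tc σ y i * σ (d / c * c) * (tc σ y i)⁻¹) := this
    rwa [div_mul_cancel₀ d hc0] at h2
  refine h.not_normalize ?_
  have h1 : (i⁻¹).val • i = 1 := by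
    rw [nsmul_eq_mul, ZMod.natCast_zmod_val, inv_mul_cancel₀ hi]
  rw [← h1, h.tc_nsmul]
  generalize (i⁻¹).val = j
  induction j with
  | zero => exact fun d => ⟨d, by simp⟩
  | succ j ih =>
    intro d
    obtain ⟨e, he⟩ := ih d
    obtain ⟨e', he'⟩ := hall e
    refine ⟨e', ?_⟩
    rw [← he', ← he, pow_succ']; group

/-- A product `σ a · t · σ b` normalizing `U` has `b = 0`. -/
theorem eq_zero_of_normalize {i : ZMod p} (hi : i ≠ 0) {a b : F}
    (hg : σ a * tc σ y i * σ b ∈ Subgroup.normalizer (U : Set G)) : b = 0 := by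
  obtain ⟨u, hu, hu1⟩ := h.exists_ne_one
  have hu' := (Subgroup.mem_normalizer_iff.mp hg u).mp hu
  set u' := σ a * tc σ y i * σ b * u * (σ a * tc σ y i * σ b)⁻¹ with hu'def
  have e : σ (b * (1 - ψ u)) * u = σ b * u * (σ b)⁻¹ := by
    rw [mul_assoc (σ b) u, ← h.sigma_neg b, h.swap hu, ← mul_assoc, ← h.add]
    congr 2; ring
  have h0 : tc σ y i * σ (b * (1 - ψ u)) * (tc σ y i)⁻¹ =
      (σ a)⁻¹ * u' * σ a * (phi σ y i u)⁻¹ := by
    calc tc σ y i * σ (b * (1 - ψ u)) * (tc σ y i)⁻¹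
        = tc σ y i * (σ (b * (1 - ψ u)) * u) * (tc σ y i)⁻¹ * (phi σ y i u)⁻¹ := by
          simp only [phi]; group
      _ = _ := by rw [e, hu'def]; group
  have h1 : b * (1 - ψ u) = 0 := h.rigid hi (h0 ▸ h.inA_mul (h.inA_mul (h.inA_mul
    (h.inA_inv (h.inA_sigma a)) (h.inA_mem hu')) (h.inA_sigma a))
    (h.inA_inv (h.inA_mem (h.phi_mem i hu))))
  exact (mul_eq_zero.mp h1).resolve_right (sub_ne_zero.mpr (Ne.symm hu1))

theorem tc_ne_sigma {i : ZMod p} (hi : i ≠ 0) (c : F) : tc σ y i ≠ σ c := fun e => by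
  refine one_ne_zero (h.rigid (F := F) hi (c := 1) ?_)
  rw [e]
  exact h.inA_mul (h.inA_mul (h.inA_sigma c) (h.inA_sigma 1)) (h.inA_inv (h.inA_sigma c))

end Config

end CfsgLib.NormOne
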